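import Groth.Agent.L22.Reg.Lin
import Groth.Agent.L22.PDual.Horrocks
import Groth.Agent.L21.Weil.Slope
import Groth.Agent.L20.ResAmple

/-!
# Resolutions by negative twists on the plane
-/

set_option autoImplicit false
set_option linter.style.haveILetI false
set_option backward.isDefEq.respectTransparency false

universe u

open CategoryTheory CategoryTheory.Limits AlgebraicGeometry TopologicalSpace Opposite

noncomputable section

namespace Groth.L03.VBPn.Res

open Groth.L16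
open Groth.L16.CohLinear (hmap hmap_comp hmap_id overLin exact_delta_hmap exact_hmap_delta)
open Groth.L00.Tensor (tensorMap tensorIso tensorRightF tensorUnitLeft tensorUnitRight)
open Groth.L21.RR (e0 e0_hmap oneSec exists_hom_of_hh0)
open Groth.L22.Reg (O' tw' Regular shortExact_tw)

variable {k : Type u} [Field k] {n : ℕ}

/-- Finitely many sections spanning `H⁰`; an epimorphism if the module is globally generated. -/
theorem exists_surjective_h0 {G : (CohB1.ProjSpace n k).Modules} (hG : Coh.IsCoh G) :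
    ∃ (b : ℕ) (p : (∐ fun _ : Fin b => Coh.structureModule (CohB1.ProjSpace n k)) ⟶ G),
      Function.Surjective (hmap p 0) ∧ (Curv2.IsGloballyGenerated G → Epi p) := by
  haveI := Groth.L22.Reg.isProper_over_proj (k := k) (n := n)
  haveI : Module.Finite k (Coh.HH (CohB1.ProjSpace n k) G 0) := Groth.L16.ProperFinite.finite_HH k hG 0
  obtain ⟨b, s, hs⟩ := Module.Finite.exists_fin (R := k) (M := Coh.HH (CohB1.ProjSpace n k) G 0)
  choose φ hφ using fun j => exists_hom_of_hh0 (s j)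
  let p : (∐ fun _ : Fin b => Coh.structureModule (CohB1.ProjSpace n k)) ⟶ G := Sigma.desc φ
  have hsurj : Function.Surjective (hmap p 0) := by
    suffices hr : LinearMap.range (overLin k (hmap p 0)) = ⊤ from fun y =>
      (LinearMap.range_eq_top.1 hr y)
    rw [eq_top_iff, ← hs, Submodule.span_le]
    rintro _ ⟨j, rfl⟩
    refine ⟨hmap (Sigma.ι (fun _ : Fin b => Coh.structureModule (CohB1.ProjSpace n k)) j) 0
      ((e0 _).symm (oneSec _)), ?_⟩
    refine (e0 G).injective ?_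
    show e0 G (hmap p 0 (hmap _ 0 _)) = e0 G (s j)
    rw [← hmap_comp, Sigma.ι_desc, e0_hmap, AddEquiv.apply_symm_apply, hφ]
  refine ⟨b, p, hsurj, fun hgg => ?_⟩
  obtain ⟨b', p', hp', -⟩ := Groth.L22.Reg.exists_epi_free hG hgg
  choose l hl using fun j => Groth.L22.PDual.exists_lift_section p hsurj
    (Sigma.ι (fun _ : Fin b' => Coh.structureModule (CohB1.ProjSpace n k)) j ≫ p')
  haveI : Epi (Sigma.desc l ≫ p) := by
    rw [show Sigma.desc l ≫ p = p' from Sigma.hom_ext _ _ fun j => by rw [Sigma.ι_desc_assoc, hl]]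
    exact hp'
  exact epi_of_epi (Sigma.desc l) p

/-- A family of sections of a twist as maps from the inverse twist. -/
theorem exists_gen (F : (CohB1.ProjSpace n k).Modules) (t : ℤ) {b : ℕ}
    (p : (∐ fun _ : Fin b => Coh.structureModule (CohB1.ProjSpace n k)) ⟶ tw' F t) :
    ∃ g : Fin b → (O' n k (-t) ⟶ F), ∀ {s : ℕ} (mm : Fin s → ℤ) (π : (∐ fun j => O' n k (mm j)) ⟶ F),
      (∀ c, ∃ (j : Fin s) (e : O' n k (-t) ⟶ O' n k (mm j)), e ≫ Sigma.ι (fun j => O' n k (mm j)) j ≫ π = g c) →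
      ∃ l, l ≫ (tensorRightF (O' n k t)).map π = p := by
  obtain ⟨e1⟩ := Groth.L22.Reg.nonempty_O_add (n := n) (R := k) (show -t + t = 0 by omega)
  obtain ⟨e2⟩ := Groth.L22.Reg.nonempty_O_zero n k
  haveI := Groth.L22.PDual.isEquivalence_tw (n := n) (k := k) t
  let eO : (tensorRightF (O' n k t)).obj (O' n k (-t)) ≅ Coh.structureModule (CohB1.ProjSpace n k) := e1 ≪≫ e2
  refine ⟨fun c => (tensorRightF (O' n k t)).preimage (eO.hom ≫
    Sigma.ι (fun _ : Fin b => Coh.structureModule (CohB1.ProjSpace n k)) c ≫ p), fun {s} mm π h => ?_⟩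
  have hc : ∀ c, ∃ l, l ≫ (tensorRightF (O' n k t)).map π =
      Sigma.ι (fun _ : Fin b => Coh.structureModule (CohB1.ProjSpace n k)) c ≫ p := fun c => by
    obtain ⟨j, e, he⟩ := h c
    refine ⟨eO.inv ≫ (tensorRightF (O' n k t)).map (e ≫ Sigma.ι (fun j => O' n k (mm j)) j), ?_⟩
    rw [Category.assoc, ← Functor.map_comp, Category.assoc, he, Functor.map_preimage, Iso.inv_hom_id_assoc]
  choose l hl using hc
  exact ⟨Sigma.desc l, Sigma.hom_ext _ _ fun c => by rw [Sigma.ι_desc_assoc, hl]⟩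

theorem exists_hom_of_eq {C : Type*} [Category C] {J : Type} {K : J → Type} {F : C} (M : J → C)
    (g : ∀ t, K t → (M t ⟶ F)) (x : Σ t, K t) (t : J) (c : K t) (h : x = ⟨t, c⟩) :
    ∃ e : M t ⟶ M x.1, e ≫ g x.1 x.2 = g t c := by
  subst h
  exact ⟨𝟙 _, Category.id_comp _⟩

theorem epi_of_lift {P F A : (CohB1.ProjSpace n k).Modules} (t : ℤ) (π : P ⟶ F)
    (p : A ⟶ (tensorRightF (O' n k t)).obj F) [Epi p] (l : A ⟶ (tensorRightF (O' n k t)).obj P)
    (hl : l ≫ (tensorRightF (O' n k t)).map π = p) : Epi π := by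
  subst hl
  haveI := epi_of_epi l ((tensorRightF (O' n k t)).map π)
  haveI := Groth.L22.PDual.isEquivalence_tw (n := n) (k := k) t
  exact (tensorRightF (O' n k t)).epi_of_epi_map inferInstance

theorem surjective_of_lift {P F A : (CohB1.ProjSpace n k).Modules} (t : ℤ) (π : P ⟶ F)
    (p : A ⟶ (tensorRightF (O' n k t)).obj F) (hp : Function.Surjective (hmap p 0))
    (l : A ⟶ (tensorRightF (O' n k t)).obj P) (hl : l ≫ (tensorRightF (O' n k t)).map π = p) :
    Function.Surjective (hmap ((tensorRightF (O' n k t)).map π) 0) := fun y => by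
  subst hl
  obtain ⟨z, rfl⟩ := hp y
  exact ⟨hmap l 0 z, by rw [← hmap_comp]⟩

/-- Generators of the sections in the degrees `1, …, m`. -/
theorem exists_generators {F : (CohB1.ProjSpace n k).Modules} (hF : Coh.IsCoh F) {m : ℕ} (hm : 1 ≤ m)
    (hgg : Curv2.IsGloballyGenerated (tw' F (m : ℤ))) :
    ∃ (s : ℕ) (mm : Fin s → ℤ) (π : (∐ fun j => O' n k (mm j)) ⟶ F),
      (∀ j, -(m : ℤ) ≤ mm j ∧ mm j < 0) ∧ Epi π ∧
      ∀ t : ℤ, 1 ≤ t → t ≤ m → Function.Surjective (hmap ((tensorRightF (O' n k t)).map π) 0) := by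
  choose b p hp hpe using fun t : Fin m => exists_surjective_h0 (Groth.L22.PDual.isCoh_tw hF ((t : ℤ) + 1))
  choose g hg using fun t : Fin m => exists_gen F ((t : ℤ) + 1) (p t)
  obtain ⟨idx⟩ : Nonempty (Fin (∑ t, b t) ≃ Σ t : Fin m, Fin (b t)) := ⟨finSigmaFinEquiv.symm⟩
  let mm : Fin (∑ t, b t) → ℤ := fun j => -(((idx j).1 : ℤ) + 1)
  let π : (∐ fun j => O' n k (mm j)) ⟶ F := Sigma.desc fun j => g (idx j).1 (idx j).2
  have hl : ∀ t : Fin m, ∃ l, l ≫ (tensorRightF (O' n k ((t : ℤ) + 1))).map π = p t := fun t =>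
    hg t mm π fun c => by
      obtain ⟨j, hj⟩ := idx.surjective ⟨t, c⟩
      obtain ⟨e, he⟩ := exists_hom_of_eq (fun z : Fin m => O' n k (-((z : ℤ) + 1))) g (idx j) t c hj
      refine ⟨j, e, ?_⟩
      simp only [π, Sigma.ι_desc]
      exact he
  refine ⟨_, mm, π, fun j => ⟨by have := (idx j).1.2; simp only [mm]; omega, by simp only [mm]; omega⟩, ?_, ?_⟩
  · let tm : Fin m := ⟨m - 1, by omega⟩
    have htm : ((tm : ℕ) : ℤ) + 1 = (m : ℤ) := by simp only [tm]; omega
    obtain ⟨l, hl⟩ := hl tm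
    haveI : Epi (p tm) := hpe tm (by rw [htm]; exact hgg)
    exact epi_of_lift _ π (p tm) l hl
  · intro t h1 h2
    obtain ⟨i, rfl⟩ : ∃ i : Fin m, t = (i : ℤ) + 1 :=
      ⟨⟨(t - 1).toNat, by omega⟩, by show t = (((t - 1).toNat : ℕ) : ℤ) + 1; omega⟩
    obtain ⟨l, hl⟩ := hl i
    exact surjective_of_lift _ π (p i) (hp i) l hl

theorem nonempty_h0_nonneg {d : ℤ} (hd : 0 ≤ d) :
    ∃ s : Coh.structureModule (CohB1.ProjSpace n k) ⟶ O' n k d, s ≠ 0 := by
  obtain ⟨j, rfl⟩ : ∃ j : ℕ, d = j := ⟨d.toNat, by omega⟩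
  obtain ⟨e0⟩ := Groth.L22.Reg.nonempty_O_zero n k
  refine ⟨e0.inv ≫ Groth.L22.SyzTilde.mulHom (p := (MvPolynomial.X 0) ^ j) (δ := (j : ℤ))
    (Groth.L22.SyzTilde.mem_G_cast.2 (by simpa using SetLike.pow_mem_graded j (ProjSpace.X_mem n k 0))) (zero_add _),
    fun h => Groth.L22.PDual.mulHom_ne_zero _ _ (pow_ne_zero j (MvPolynomial.X_ne_zero 0))
      ((Preadditive.IsIso.comp_left_eq_zero e0.inv _).1 h)⟩

/-- No sections in a lower twist if there are none in a higher one. -/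
theorem subsingleton_h0_of_le {F : (CohB1.ProjSpace n k).Modules} (hF : FlatMod.IsFinLocFree F) {a b : ℤ}
    (hab : a ≤ b) (h : Subsingleton (Coh.HH (CohB1.ProjSpace n k) (tw' F b) 0)) :
    Subsingleton (Coh.HH (CohB1.ProjSpace n k) (tw' F a) 0) := by
  haveI := Groth.L22.PDual.proper n k
  haveI := Groth.L21.RR.isNoetherian_of_proper (X := CohB1.ProjSpace n k) k
  obtain ⟨s, hs⟩ := nonempty_h0_nonneg (n := n) (k := k) (show 0 ≤ b - a by omega)
  have hO := Groth.L18.Ample.isInvertible_structureModule (CohB1.ProjSpace n k)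
  haveI : Mono s :=
    Groth.L22.PDual.mono_of_ne_zero hO (ProjTwist.isInvertible_twistProjSpace n k _) hs
  have hFa : FlatMod.IsFinLocFree (tw' F a) :=
    Groth.L29.DC.isFinLocFree_tensor hF
      (Groth.L20.ResDescent.isFinLocFree_of_isInvertible (ProjTwist.isInvertible_twistProjSpace n k _))
  haveI : Mono (tensorMap (𝟙 (tw' F a)) s) :=
    Groth.L21.Weil.mono_tensor hFa (Groth.L20.ResDescent.isFinLocFree_of_isInvertible hO) _ _
  obtain ⟨e⟩ := Groth.L22.Reg.nonempty_tw_tw F (show a + (b - a) = b by omega)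
  let φ : tw' F a ⟶ tw' F b := (tensorUnitRight (tw' F a)).inv ≫ tensorMap (𝟙 (tw' F a)) s ≫ e.hom
  haveI : Mono φ := inferInstanceAs (Mono (_ ≫ _ ≫ _))
  exact (Groth.L21.RR.injective_hmap_zero φ).subsingleton

variable {F : (CohB1.ProjSpace 2 k).Modules}

/-- A locally free module without sections in degrees `≤ 0` is resolved by negative twists. -/
theorem exists_resolution (hF : FlatMod.IsFinLocFree F)
    (h0 : Subsingleton (Coh.HH (CohB1.ProjSpace 2 k) (tw' F 0) 0)) :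
    ∃ (r s : ℕ) (kk : Fin r → ℤ) (mm : Fin s → ℤ) (S : ShortComplex (CohB1.ProjSpace 2 k).Modules),
      S.ShortExact ∧ (∀ i, kk i < 0) ∧ (∀ j, mm j < 0) ∧
      Nonempty (S.X₁ ≅ ∐ fun i : Fin r => O' 2 k (kk i)) ∧
      Nonempty (S.X₂ ≅ ∐ fun j : Fin s => O' 2 k (mm j)) ∧
      Nonempty (S.X₃ ≅ F) := by
  haveI := Groth.L22.PDual.proper 2 k
  haveI := Groth.L21.RR.isNoetherian_of_proper (X := CohB1.ProjSpace 2 k) k
  have hcoh := Groth.L16.NegPow.isCoh_of_isFinLocFree hF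
  haveI := hcoh.1
  obtain ⟨m₀, hm₀⟩ := Groth.L22.Reg.exists_regular hcoh
  let m : ℕ := m₀ + 1
  have hreg : Regular F (m : ℤ) := hm₀.of_le (by simp only [m]; omega)
  obtain ⟨s, mm, π, hmm, hπ, hsurj⟩ := exists_generators hcoh (m := m) (by omega)
    (hreg.isGloballyGenerated hcoh le_rfl)
  let P : (CohB1.ProjSpace 2 k).Modules := ∐ fun j => O' 2 k (mm j)
  let S := ShortComplex.mk (kernel.ι π) π (kernel.condition π)
  have hS : S.ShortExact := { exact := ShortComplex.exact_kernel π, epi_g := hπ }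
  have hK : Coh.IsCoh S.X₁ := (CohKernel.isCoh_kernel_cokernel (ProjSpace.isCoh_sigma_twist 2 k mm) hcoh π).1
  haveI := hK.1
  have hP : ∀ (t : ℤ) (q : ℕ), (∀ j, ¬ (q = 0 ∧ 0 ≤ mm j + t) ∧ ¬ (q = 2 ∧ mm j + t ≤ -3)) →
      Subsingleton (Coh.HH (CohB1.ProjSpace 2 k) (tw' P t) q) := fun t q h =>
    Groth.L22.PDual.subsingleton_sigma_mid mm (Iso.refl _) t fun j => ⟨(h j).1, fun hh => (h j).2 ⟨hh.1, by omega⟩⟩
  have hP1 : ∀ t, Subsingleton (Coh.HH (CohB1.ProjSpace 2 k) (tw' P t) 1) := fun t =>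
    hP t 1 fun j => ⟨fun h => by omega, fun h => by omega⟩
  have hsurj' : ∀ t : ℤ, t ≤ m → Function.Surjective (hmap ((tensorRightF (O' 2 k t)).map π) 0) := by
    intro t ht
    rcases le_or_gt t 0 with h | h
    · haveI := subsingleton_h0_of_le hF h h0
      exact fun y => ⟨0, Subsingleton.elim (α := Coh.HH (CohB1.ProjSpace 2 k) (tw' F t) 0) _ _⟩
    · exact hsurj t (by omega) ht
  have hK1 : ∀ t : ℤ, t ≤ m → Subsingleton (Coh.HH (CohB1.ProjSpace 2 k) (tw' S.X₁ t) 1) := by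
    intro t ht
    haveI := hP1 t
    refine subsingleton_of_forall_eq 0 fun y => ?_
    obtain ⟨z, rfl⟩ := ((exact_delta_hmap (shortExact_tw hS t) 0) y).1
      (Subsingleton.elim (α := Coh.HH (CohB1.ProjSpace 2 k) (tw' P t) (0 + 1)) _ _)
    obtain ⟨w, rfl⟩ := hsurj' t ht z
    exact ((exact_hmap_delta (shortExact_tw hS t) 0) _).2 ⟨w, rfl⟩
  have hregK : Regular S.X₁ ((m : ℤ) + 1) := Groth.L22.Reg.regular_of_le_n fun q hq hq2 => by
    obtain rfl | rfl : q = 1 ∨ q = 2 := by omega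
    · rw [show (m : ℤ) + 1 - ((1 : ℕ) : ℤ) = m by omega]
      exact hK1 _ le_rfl
    · refine Groth.L22.Reg.subsingleton_of_exact (exact_delta_hmap (shortExact_tw hS _) 1) ?_ ?_ (map_zero _)
      · exact hreg.subsingleton le_rfl (by omega)
      · exact hP _ 2 fun j => ⟨fun h => by omega, fun h => by have := (hmm j).1; omega⟩
  have hK1' : ∀ t, Subsingleton (Coh.HH (CohB1.ProjSpace 2 k) (tw' S.X₁ t) 1) := fun t => by
    rcases le_or_gt t m with h | h
    · exact hK1 t h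
    · exact hregK.subsingleton le_rfl (by omega)
  have hKP : ∀ t, Subsingleton (Coh.HH (CohB1.ProjSpace 2 k) (tw' P t) 0) →
      Subsingleton (Coh.HH (CohB1.ProjSpace 2 k) (tw' S.X₁ t) 0) := fun t h => by
    haveI : Mono ((tensorRightF (O' 2 k t)).map S.f) := (shortExact_tw hS t).mono_f
    haveI : Subsingleton (Coh.HH (CohB1.ProjSpace 2 k) ((tensorRightF (O' 2 k t)).obj S.X₂) 0) := h
    exact (Groth.L21.RR.injective_hmap_zero ((tensorRightF (O' 2 k t)).map S.f)).subsingleton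
  have hP0 : ∀ t : ℤ, t ≤ 0 → Subsingleton (Coh.HH (CohB1.ProjSpace 2 k) (tw' P t) 0) := fun t ht =>
    hP t 0 fun j => ⟨fun h => by have := (hmm j).2; omega, fun h => by omega⟩
  obtain ⟨r, kk, ⟨eK⟩, -⟩ := Groth.L22.PDual.split hK (Or.inr ⟨0, fun t ht => hKP t (hP0 t ht)⟩)
    fun t i h1 h2 => by
      obtain rfl : i = 1 := by omega
      exact hK1' t
  refine ⟨r, s, kk, mm, S, hS, fun i => ?_, fun j => (hmm j).2, ⟨eK⟩, ⟨Iso.refl _⟩, ⟨Iso.refl _⟩⟩
  by_contra hi
  obtain ⟨σ, hσ⟩ := nonempty_h0_nonneg (n := 2) (k := k) (show 0 ≤ kk i by omega)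
  obtain ⟨e00⟩ := Groth.L22.Reg.nonempty_tw_zero S.X₁
  haveI : Subsingleton (Coh.HH (CohB1.ProjSpace 2 k) S.X₁ 0) :=
    (Groth.L22.Reg.subsingleton_congr_iso e00 0).1 (hKP 0 (hP0 0 le_rfl))
  have hz : σ ≫ Sigma.ι (fun j => O' 2 k (kk j)) i ≫ eK.inv = 0 :=
    Groth.L21.RR.hom_ext_one ((e0 S.X₁).symm.injective (Subsingleton.elim _ _))
  refine hσ ((cancel_mono (Sigma.ι (fun j => O' 2 k (kk j)) i ≫ eK.inv)).1 ?_)
  rw [hz, zero_comp]

end Groth.L03.VBPn.Res
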