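import Groth.Agent.L03.VBPn.Res.Split3
import Groth.Agent.L12.ExtSh.Extension
import Groth.Agent.L18.KRRAmple
import Groth.Agent.L20.PnPic.Main
import Groth.Agent.L03.ShStab.ExtTwistPn

/-!
# Splitting of Serre bundles
-/

set_option autoImplicit false
set_option linter.style.haveILetI false
set_option backward.isDefEq.respectTransparency false

universe u

open CategoryTheory CategoryTheory.Limits AlgebraicGeometry TopologicalSpace Opposite

noncomputable section

namespace Groth.L03.VBPn.Res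

open Groth.L16
open Groth.L16.CohLinear (hmap exact_hmap_delta)
open Groth.L16.CohSupport (len)
open Groth.L00.Tensor (tensorMap tensorIso tensorRightF tensorUnitLeft)
open Groth.L22.Reg (O' tw' shortExact_tw)

variable {k : Type u} [Field k] {n : ℕ}

/-- The trivial direction. -/
theorem exists_epi_of_split {S : ShortComplex (CohB1.ProjSpace n k).Modules} (hS : S.ShortExact)
    {J : (CohB1.ProjSpace n k).Modules} {c a' b' : ℤ} (eJ : S.X₃ ≅ tw' J c)
    (eE : S.X₂ ≅ O' n k a' ⊞ O' n k b') :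
    ∃ (a b : ℤ) (ψ : O' n k (-a) ⊞ O' n k (-b) ⟶ J), Epi ψ := by
  let T := tensorRightF (O' n k (-c))
  haveI : T.IsEquivalence := Groth.L22.PDual.isEquivalence_tw (n := n) (k := k) (-c)
  obtain ⟨ea⟩ := Groth.L22.Reg.nonempty_O_add (n := n) (R := k) (show a' + -c = -(c - a') by omega)
  obtain ⟨eb⟩ := Groth.L22.Reg.nonempty_O_add (n := n) (R := k) (show b' + -c = -(c - b') by omega)
  obtain ⟨e1⟩ := Groth.L22.Reg.nonempty_tw_tw J (show c + -c = 0 by omega)
  obtain ⟨e2⟩ := Groth.L22.Reg.nonempty_tw_zero J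
  haveI := hS.epi_g
  haveI : Epi (T.map S.g) := inferInstance
  let i : O' n k (-(c - a')) ⊞ O' n k (-(c - b')) ≅ T.obj S.X₂ :=
    biprod.mapIso ea.symm eb.symm ≪≫ Groth.L22.Reg.tensorBiprod _ _ _ ≪≫ T.mapIso eE.symm
  let j : T.obj S.X₃ ≅ J := T.mapIso eJ ≪≫ e1 ≪≫ e2
  exact ⟨c - a', c - b', i.hom ≫ T.map S.g ≫ j.hom, inferInstanceAs (Epi (_ ≫ _ ≫ _))⟩

/-- Lifting a twist through an extension by `O`. -/
theorem exists_lift (hn : 2 ≤ n) {S : ShortComplex (CohB1.ProjSpace n k).Modules} (hS : S.ShortExact)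
    (e₁ : S.X₁ ≅ Coh.structureModule (CohB1.ProjSpace n k)) {d : ℤ} (f : O' n k d ⟶ S.X₃) :
    ∃ g : O' n k d ⟶ S.X₂, g ≫ S.g = f := by
  obtain ⟨e⟩ := Groth.L22.Reg.nonempty_O_add (n := n) (R := k) (show d + -d = 0 by omega)
  obtain ⟨e0'⟩ := Groth.L22.Reg.nonempty_O_zero n k
  haveI : Subsingleton (Coh.HH (CohB1.ProjSpace n k) (tw' S.X₁ (-d)) (0 + 1)) :=
    Groth.L22.Reg.subsingleton_iso ((tensorUnitLeft (O' n k (-d))).symm ≪≫ tensorIso e₁.symm (Iso.refl _)) _
      (ProjSpace.subsingleton_HH_twist n k _ _ (fun h => by omega) (fun h => by omega))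
  have hsurj : Function.Surjective (hmap ((tensorRightF (O' n k (-d))).map S.g) 0) := fun y =>
    (exact_hmap_delta (shortExact_tw hS (-d)) 0 y).1
      (Subsingleton.elim (α := Coh.HH (CohB1.ProjSpace n k) (tw' S.X₁ (-d)) (0 + 1)) _ _)
  let eO : (tensorRightF (O' n k (-d))).obj (O' n k d) ≅ Coh.structureModule (CohB1.ProjSpace n k) := e ≪≫ e0'
  haveI := Groth.L22.PDual.isEquivalence_tw (n := n) (k := k) (-d)
  obtain ⟨h, hh⟩ := Groth.L22.PDual.exists_lift_section ((tensorRightF (O' n k (-d))).map S.g) hsurj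
    (eO.inv ≫ (tensorRightF (O' n k (-d))).map f)
  refine ⟨(tensorRightF (O' n k (-d))).preimage (eO.hom ≫ h), (tensorRightF (O' n k (-d))).map_injective ?_⟩
  rw [Functor.map_comp, Functor.map_preimage, Category.assoc, hh, Iso.hom_inv_id_assoc]

theorem len_biprod (A B : (CohB1.ProjSpace n k).Modules) :
    len (genericPoint (CohB1.ProjSpace n k)) (A ⊞ B) =
      len (genericPoint (CohB1.ProjSpace n k)) A + len (genericPoint (CohB1.ProjSpace n k)) B :=
  CohSupport.len_add (Groth.L22.Reg.biSC_shortExact A B) _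

/-- An extension of a quotient of two twists by `O` splits. -/
theorem split_of_epi (hn : 3 ≤ n) {S : ShortComplex (CohB1.ProjSpace n k).Modules} (hS : S.ShortExact)
    (hE : FlatMod.IsFinLocFreeOfRank 2 S.X₂)
    (e₁ : S.X₁ ≅ Coh.structureModule (CohB1.ProjSpace n k)) {J : (CohB1.ProjSpace n k).Modules} {c a b : ℤ}
    (eJ : S.X₃ ≅ tw' J c) (ψ : O' n k (-a) ⊞ O' n k (-b) ⟶ J) [Epi ψ] :
    ∃ a' b' : ℤ, Nonempty (S.X₂ ≅ O' n k a' ⊞ O' n k b') := by
  obtain ⟨ea⟩ := Groth.L22.Reg.nonempty_O_add (n := n) (R := k) (show -a + c = c - a by omega)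
  obtain ⟨eb⟩ := Groth.L22.Reg.nonempty_O_add (n := n) (R := k) (show -b + c = c - b by omega)
  obtain ⟨e0'⟩ := Groth.L22.Reg.nonempty_O_zero n k
  let T := tensorRightF (O' n k c)
  haveI : T.IsEquivalence := Groth.L22.PDual.isEquivalence_tw (n := n) (k := k) c
  let i : O' n k (c - a) ⊞ O' n k (c - b) ≅ T.obj (O' n k (-a) ⊞ O' n k (-b)) :=
    biprod.mapIso ea.symm eb.symm ≪≫ Groth.L22.Reg.tensorBiprod _ _ _
  let p : O' n k (c - a) ⊞ O' n k (c - b) ⟶ S.X₃ := i.hom ≫ T.map ψ ≫ eJ.inv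
  haveI : Epi p := inferInstanceAs (Epi (_ ≫ _ ≫ _))
  obtain ⟨ga, hga⟩ := exists_lift (by omega) hS e₁ (biprod.inl ≫ p)
  obtain ⟨gb, hgb⟩ := exists_lift (by omega) hS e₁ (biprod.inr ≫ p)
  let φ := biprod.desc ga gb
  have hφ : φ ≫ S.g = p := by
    apply biprod.hom_ext'
    · rw [biprod.inl_desc_assoc, hga]
    · rw [biprod.inr_desc_assoc, hgb]
  let q : O' n k 0 ⊞ (O' n k (c - a) ⊞ O' n k (c - b)) ⟶ S.X₂ := biprod.desc (e0'.hom ≫ e₁.inv ≫ S.f) φ
  haveI : Epi q := Preadditive.epi_of_cancel_zero _ fun {Z} h hh => by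
    have hf : S.f ≫ h = 0 := by
      have h1 := congrArg (biprod.inl ≫ ·) hh
      simp only [q, biprod.inl_desc_assoc, comp_zero, Category.assoc] at h1
      rwa [Preadditive.IsIso.comp_left_eq_zero, Preadditive.IsIso.comp_left_eq_zero] at h1
    obtain ⟨h', hh'⟩ := CokernelCofork.IsColimit.desc' hS.gIsCokernel h hf
    change S.g ≫ h' = h at hh'
    have h2 := congrArg (biprod.inr ≫ ·) hh
    simp only [q, biprod.inr_desc_assoc, comp_zero] at h2
    rw [← hh', ← Category.assoc, hφ] at h2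
    rw [← hh', (cancel_epi p).1 (h2.trans comp_zero.symm), comp_zero]
  let S' := ShortComplex.mk (kernel.ι q) q (kernel.condition q)
  have hS' : S'.ShortExact := { exact := ShortComplex.exact_kernel q }
  have hO : ∀ d : ℤ, FlatMod.IsFinLocFree (O' n k d) := fun d =>
    Groth.L20.ResDescent.isFinLocFree_of_isInvertible (ProjTwist.isInvertible_twistProjSpace n k d)
  have hM2 := Groth.L12.ExtSh.isFinLocFree_middle (Groth.L22.Reg.biSC_shortExact (O' n k (c - a)) (O' n k (c - b)))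
    (hO _) (hO _)
  have hM := Groth.L12.ExtSh.isFinLocFree_middle
    (Groth.L22.Reg.biSC_shortExact (O' n k 0) (O' n k (c - a) ⊞ O' n k (c - b))) (hO 0) hM2
  have hK : FlatMod.IsFinLocFree (kernel q) :=
    Groth.L29.DC.isFinLocFree_kernel_of_epi q hM (Groth.L22.CurveDeg.isFinLocFree_of_rank hE)
  obtain ⟨r, hr⟩ := Groth.L18.KRRAmple.exists_rank hK
  have hlen := CohSupport.len_add hS' (genericPoint (CohB1.ProjSpace n k))
  rw [show len _ S'.X₁ = (r : ℕ∞) from Groth.L22.PDual.len_eq_of_rank hr,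
    show len _ S'.X₃ = ((2 : ℕ) : ℕ∞) from Groth.L22.PDual.len_eq_of_rank hE,
    show S'.X₂ = (O' n k 0 ⊞ (O' n k (c - a) ⊞ O' n k (c - b))) from rfl, len_biprod, len_biprod,
    Groth.L22.PDual.len_twist, Groth.L22.PDual.len_twist, Groth.L22.PDual.len_twist] at hlen
  obtain rfl : r = 1 := by
    have h3 : ((3 : ℕ) : ℕ∞) = ((r + 2 : ℕ) : ℕ∞) := by
      rw [Nat.cast_add, ← hlen]
      norm_num
    have := Nat.cast_inj.1 h3
    omega
  obtain ⟨e, ⟨eK⟩⟩ := Groth.L20.PnPic.exists_iso_twist (kernel q) (Groth.L03.ShStab.ExtTwistPn.isInvertible_of_rank_one hr)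
  exact split_of_three hn hS' hE eK (Iso.refl _)

end Groth.L03.VBPn.Res
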