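import Groth.Agent.L03.VBPn.Res.Basic
import Groth.Agent.L22.PDual.Horrocks
import Groth.Agent.L03.Euler.Twist
import Groth.Agent.L22.CurveDeg.ZeroDim
import Mathlib.Algebra.Category.ModuleCat.Projective
import Mathlib.Algebra.Homology.ShortComplex.ShortExact
import Mathlib.RingTheory.OrzechProperty

/-!
# Locally free cokernels of `O(e) ⟶ O(m₀) ⊞ O(m₁) ⊞ O(m₂)`

In dimension at least three such a cokernel splits: three forms of positive degree have a common zero.
-/

set_option autoImplicit false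
set_option linter.style.haveILetI false
set_option backward.isDefEq.respectTransparency false

universe u v

open CategoryTheory CategoryTheory.Limits AlgebraicGeometry TopologicalSpace Opposite

noncomputable section

namespace Groth.L03.VBPn.Res

open Groth.L16
open Groth.L00.Tensor (tensorMap tensorIso tensorRightF tensorUnitLeft)
open Groth.L22.Reg (O' tw' sm sm_comp Generates exists_theta kos kos_obj kos_isZero kos_exactAtPt subsingleton_aug)

/-- Of three maps adding up to a retraction of a module of rank one, one is bijective. -/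
theorem bijective_of_sum {R : Type u} [CommRing R] [IsLocalRing R] {K T₀ T₁ T₂ : Type v} [AddCommGroup K]
    [Module R K] [AddCommGroup T₀] [Module R T₀] [AddCommGroup T₁] [Module R T₁] [AddCommGroup T₂] [Module R T₂]
    (eK : R ≃ₗ[R] K) (e₀ : R ≃ₗ[R] T₀) (e₁ : R ≃ₗ[R] T₁) (e₂ : R ≃ₗ[R] T₂)
    (l₀ : K →ₗ[R] T₀) (l₁ : K →ₗ[R] T₁) (l₂ : K →ₗ[R] T₂) (r₀ : T₀ →ₗ[R] K) (r₁ : T₁ →ₗ[R] K) (r₂ : T₂ →ₗ[R] K)
    (h : ∀ v, r₀ (l₀ v) + r₁ (l₁ v) + r₂ (l₂ v) = v) :
    Function.Bijective l₀ ∨ Function.Bijective l₁ ∨ Function.Bijective l₂ := by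
  have hs : ∀ (φ : K →ₗ[R] K) v, φ v = eK.symm (φ (eK 1)) • v := fun φ v => by
    apply eK.symm.injective
    obtain ⟨t, rfl⟩ := eK.surjective v
    rw [map_smul, LinearEquiv.symm_apply_apply, show eK t = t • eK 1 by rw [← map_smul, smul_eq_mul, mul_one],
      map_smul, map_smul, smul_eq_mul, smul_eq_mul, mul_comm]
  have key : ∀ {T : Type v} [AddCommGroup T] [Module R T] (e : R ≃ₗ[R] T) (l : K →ₗ[R] T) (r : T →ₗ[R] K),
      IsUnit (eK.symm ((r.comp l) (eK 1))) → Function.Bijective l := by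
    intro T _ _ e l r hu
    have hb : Function.Bijective (r.comp l) := by
      obtain ⟨a, ha⟩ := hu
      refine ⟨fun x y hxy => ?_, fun y => ⟨(↑a⁻¹ : R) • y, ?_⟩⟩
      · rw [hs, hs (r.comp l) y, ← ha] at hxy
        simpa [smul_smul] using congrArg (fun z => (↑a⁻¹ : R) • z) hxy
      · rw [hs, ← ha, smul_smul, Units.mul_inv, one_smul]
    have hr : Function.Surjective r := fun y => ⟨l (hb.2 y).choose, (hb.2 y).choose_spec⟩
    haveI : Module.Finite R T := Module.Finite.equiv e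
    let E : K ≃ₗ[R] T := eK.symm.trans e
    have hinj : Function.Injective r :=
      (OrzechProperty.injective_of_surjective_endomorphism (E.toLinearMap.comp r)
        (E.surjective.comp hr)).of_comp (f := E)
    exact (Function.Bijective.of_comp_iff' ⟨hinj, hr⟩ l).1 hb
  let φ₀ := eK.symm ((r₀.comp l₀) (eK 1))
  let φ₁ := eK.symm ((r₁.comp l₁) (eK 1))
  let φ₂ := eK.symm ((r₂.comp l₂) (eK 1))
  have hone : φ₀ + (φ₁ + φ₂) = 1 := by
    simp only [φ₀, φ₁, φ₂, ← map_add, LinearMap.comp_apply]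
    rw [← add_assoc, h, LinearEquiv.symm_apply_apply]
  rcases IsLocalRing.isUnit_or_isUnit_of_add_one hone with h0 | h12
  · exact Or.inl (key e₀ l₀ r₀ h0)
  rcases IsLocalRing.isUnit_or_isUnit_of_isUnit_add h12 with h1 | h2
  · exact Or.inr (Or.inl (key e₁ l₁ r₁ h1))
  · exact Or.inr (Or.inr (key e₂ l₂ r₂ h2))

variable {k : Type u} [Field k] {n : ℕ}

theorem bijective_sm_iso {X : Scheme.{u}} (x : X) {A B : X.Modules} (e : A ≅ B) : Function.Bijective (sm x e.hom) :=
  (ConcreteCategory.isIso_iff_bijective _).1 inferInstance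

theorem bijective_sm_comp {X : Scheme.{u}} (x : X) {A B C : X.Modules} (f : A ⟶ B) (g : B ⟶ C)
    (hf : Function.Bijective (sm x f)) (hg : Function.Bijective (sm x g)) : Function.Bijective (sm x (f ≫ g)) := by
  have h : sm x (f ≫ g) = sm x g ∘ sm x f := funext fun v => sm_comp x f g v
  exact (congrArg Function.Bijective h).mpr (hg.comp hf)

/-- Twisting a map of twists. -/
theorem exists_shift {a b a' b' : ℤ} (c : ℤ) (ha : a + c = a') (hb : b + c = b') (f : O' n k a ⟶ O' n k b) :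
    ∃ g : O' n k a' ⟶ O' n k b', ∀ x, Function.Bijective (sm x f) → Function.Bijective (sm x g) := by
  obtain ⟨ea⟩ := Groth.L22.Reg.nonempty_O_add (n := n) (R := k) ha
  obtain ⟨eb⟩ := Groth.L22.Reg.nonempty_O_add (n := n) (R := k) hb
  refine ⟨ea.inv ≫ (tensorRightF (O' n k c)).map f ≫ eb.hom, fun x hf => ?_⟩
  obtain ⟨θ, hθ, -, hnat⟩ := exists_theta x (ProjTwist.isInvertible_twistProjSpace n k c)
  have hT : Function.Bijective (sm x ((tensorRightF (O' n k c)).map f)) := by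
    refine (Function.Bijective.of_comp_iff _ (hθ _)).1 ?_
    exact (congrArg Function.Bijective (a₁ := _ ∘ _) (funext (hnat _ _ f))).mpr ((hθ _).comp hf)
  exact bijective_sm_comp x _ _ (bijective_sm_iso x ea.symm) (bijective_sm_comp x _ _ hT (bijective_sm_iso x eb))

/-- Powers of a form. -/
theorem exists_pow {d : ℤ} (f : O' n k (-d) ⟶ Coh.structureModule (CohB1.ProjSpace n k)) :
    ∀ (m : ℕ) (D : ℤ), d * m = D → ∃ g : O' n k (-D) ⟶ Coh.structureModule (CohB1.ProjSpace n k),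
      ∀ x, Function.Bijective (sm x f) → Function.Bijective (sm x g)
  | 0, D, hD => by
    obtain rfl : D = 0 := by simpa using hD.symm
    obtain ⟨e0⟩ := Groth.L22.Reg.nonempty_O_zero n k
    exact ⟨((eqToIso (congrArg (O' n k) neg_zero)) ≪≫ e0).hom, fun x _ => bijective_sm_iso x _⟩
  | m + 1, D, hD => by
    obtain ⟨e0⟩ := Groth.L22.Reg.nonempty_O_zero n k
    obtain ⟨g, hg⟩ := exists_pow f m (d * m) rfl
    obtain ⟨f', hf'⟩ := exists_shift (-(d * m)) (show -d + -(d * m) = -D by rw [← hD]; push_cast; ring)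
      (show (0 : ℤ) + -(d * m) = -(d * m) by ring) (f ≫ e0.inv)
    exact ⟨f' ≫ g, fun x hx => bijective_sm_comp x _ _
      (hf' x (bijective_sm_comp x _ _ hx (bijective_sm_iso x e0.symm))) (hg x hx)⟩

theorem nonempty_pow (D : ℤ) : ∀ j : ℕ,
    Nonempty (CohB1.tensorPow (O' n k (-D)) j ≅ O' n k (-(D * (j : ℤ))))
  | 0 => by
    obtain ⟨e⟩ := Groth.L22.Reg.nonempty_O_zero n k
    exact ⟨e.symm ≪≫ eqToIso (congrArg (O' n k) (by simp))⟩
  | j + 1 => by
    obtain ⟨e⟩ := nonempty_pow D j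
    obtain ⟨e'⟩ := Groth.L22.Reg.nonempty_O_add (n := n) (R := k)
      (show -(D * (j : ℤ)) + -D = -(D * ((j + 1 : ℕ) : ℤ)) by push_cast; ring)
    exact ⟨tensorIso e (Iso.refl _) ≪≫ e'⟩

/-- At most `n` forms of positive degree do not generate. -/
theorem not_generates {D : ℤ} (hD : 0 < D)
    (σs : List (O' n k (-D) ⟶ Coh.structureModule (CohB1.ProjSpace n k))) (hlen : σs.length ≤ n)
    (hσ : Generates σs) : False := by
  have hsub : Subsingleton (Coh.HH (CohB1.ProjSpace n k) (Coh.structureModule (CohB1.ProjSpace n k)) 0) := by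
    refine subsingleton_aug
      (fun x => kos_exactAtPt x (ProjTwist.isInvertible_twistProjSpace n k _) (hσ x)) (kos_isZero σs) fun j => ?_
    rcases lt_or_ge j σs.length with hj | hj
    · refine kos_obj (PP := fun j M => j < σs.length → Subsingleton (Coh.HH (CohB1.ProjSpace n k) M (0 + j)))
        (fun _ _ hM _ => Groth.L03.Euler.subsingleton_HH_of_isZero hM _)
        (fun _ _ _ hA hB h => Groth.L22.Reg.subsingleton_biprod _ (hA h) (hB h))
        (fun _ _ _ e hA h => Groth.L22.Reg.subsingleton_iso e _ (hA h)) ?_ j hj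
      intro i hi
      obtain ⟨p⟩ : Nonempty (CohB1.tensorPow (O' n k (-D)) (i + 1) ≅ O' n k (-(D * (i + 1 : ℕ)))) :=
        nonempty_pow D (i + 1)
      refine Groth.L22.Reg.subsingleton_iso (tensorUnitLeft _ ≪≫ p).symm _ ?_
      have hpos : 0 < D * ((i + 1 : ℕ) : ℤ) := mul_pos hD (by omega)
      exact ProjSpace.subsingleton_HH_twist n k _ _ (fun h => by omega) (fun h => by omega)
    · exact Groth.L03.Euler.subsingleton_HH_of_isZero (kos_isZero σs j hj) _
  obtain ⟨σ, hσ⟩ := nonempty_h0_nonneg (n := n) (k := k) (le_refl (0 : ℤ))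
  obtain ⟨e0'⟩ := Groth.L22.Reg.nonempty_O_zero n k
  refine hσ ((cancel_mono e0'.hom).1 ?_)
  rw [zero_comp]
  exact Groth.L21.RR.hom_ext_one ((Groth.L21.RR.e0 _).symm.injective (Subsingleton.elim _ _))


/-- A retraction splitting off a summand. -/
theorem nonempty_coker_iso {C : Type*} [Category C] [Abelian C] {S : ShortComplex C} (hS : S.ShortExact)
    {A B : C} (e : S.X₂ ≅ A ⊞ B) (h : IsIso (S.f ≫ e.hom ≫ biprod.fst)) : Nonempty (S.X₃ ≅ B) := by
  haveI := h
  haveI := hS.epi_g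
  let a := S.f ≫ e.hom ≫ biprod.fst
  let q : S.X₂ ⟶ B := e.hom ≫ biprod.snd - e.hom ≫ biprod.fst ≫ inv a ≫ S.f ≫ e.hom ≫ biprod.snd
  have hq : S.f ≫ q = 0 := by
    simp only [q, Preadditive.comp_sub]
    rw [show S.f ≫ e.hom ≫ biprod.fst ≫ inv a ≫ S.f ≫ e.hom ≫ biprod.snd =
      a ≫ inv a ≫ S.f ≫ e.hom ≫ biprod.snd by simp only [a, Category.assoc], IsIso.hom_inv_id_assoc, sub_self]
  obtain ⟨h', hh'⟩ := CokernelCofork.IsColimit.desc' hS.gIsCokernel q hq
  change S.g ≫ h' = q at hh'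
  refine ⟨{ hom := h', inv := biprod.inr ≫ e.inv ≫ S.g, hom_inv_id := ?_, inv_hom_id := ?_ }⟩
  · rw [← cancel_epi S.g, ← Category.assoc, hh', Category.comp_id]
    have hfg : S.f ≫ S.g = 0 := S.zero
    have hz : S.f ≫ e.hom ≫ biprod.snd ≫ biprod.inr ≫ e.inv ≫ S.g = -(a ≫ biprod.inl ≫ e.inv ≫ S.g) := by
      rw [eq_neg_iff_add_eq_zero]
      simp only [a, Category.assoc]
      rw [← Preadditive.comp_add, ← Preadditive.comp_add, ← Category.assoc biprod.snd, ← Category.assoc biprod.fst,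
        ← Preadditive.add_comp, add_comm, biprod.total, Category.id_comp, Iso.hom_inv_id_assoc, hfg]
    simp only [q, Preadditive.sub_comp, Category.assoc, hz, Preadditive.comp_neg, sub_neg_eq_add,
      IsIso.inv_hom_id_assoc]
    rw [← Preadditive.comp_add, ← Category.assoc biprod.snd, ← Category.assoc biprod.fst, ← Preadditive.add_comp,
      add_comm, biprod.total, Category.id_comp, Iso.hom_inv_id_assoc]
  · simp only [Category.assoc, hh', q, Preadditive.comp_sub, Iso.inv_hom_id_assoc, biprod.inr_snd,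
      biprod.inr_fst_assoc, zero_comp, sub_zero]

theorem le_of_ne_zero (hn : 1 ≤ n) {a b : ℤ} {φ : O' n k a ⟶ O' n k b} (hφ : φ ≠ 0) : a ≤ b := by
  by_contra hab
  obtain ⟨ea⟩ := Groth.L22.Reg.nonempty_O_add (n := n) (R := k) (show a + -a = 0 by omega)
  obtain ⟨eb⟩ := Groth.L22.Reg.nonempty_O_add (n := n) (R := k) (show b + -a = b - a by omega)
  obtain ⟨e0'⟩ := Groth.L22.Reg.nonempty_O_zero n k
  haveI := Groth.L22.PDual.isEquivalence_tw (n := n) (k := k) (-a)
  haveI : Subsingleton (Coh.HH (CohB1.ProjSpace n k) (O' n k (b - a)) 0) :=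
    ProjSpace.subsingleton_HH_twist n k _ _ (fun h => by omega) (fun h => by omega)
  have hz : e0'.inv ≫ ea.inv ≫ (tensorRightF (O' n k (-a))).map φ ≫ eb.hom = 0 :=
    Groth.L21.RR.hom_ext_one ((Groth.L21.RR.e0 _).symm.injective (Subsingleton.elim _ _))
  refine hφ ((tensorRightF (O' n k (-a))).map_injective ?_)
  rw [Functor.map_zero, ← cancel_mono eb.hom, zero_comp, ← cancel_epi ea.inv, ← cancel_epi e0'.inv, hz, comp_zero,
    comp_zero]

theorem isIso_of_eq {a b : ℤ} {φ : O' n k a ⟶ O' n k b} (h : a = b) (hφ : φ ≠ 0) : IsIso φ := by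
  subst h
  obtain ⟨ea⟩ := Groth.L22.Reg.nonempty_O_add (n := n) (R := k) (show a + -a = 0 by omega)
  obtain ⟨e0'⟩ := Groth.L22.Reg.nonempty_O_zero n k
  haveI := Groth.L22.PDual.isEquivalence_tw (n := n) (k := k) (-a)
  let e : (tensorRightF (O' n k (-a))).obj (O' n k a) ≅ Coh.structureModule (CohB1.ProjSpace n k) := ea ≪≫ e0'
  let c := e.inv ≫ (tensorRightF (O' n k (-a))).map φ ≫ e.hom
  haveI : IsIso c := Groth.L22.PDual.isIso_of_endo_ne_zero fun hc => hφ ((tensorRightF (O' n k (-a))).map_injective (by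
    rw [Functor.map_zero, ← cancel_mono e.hom, zero_comp, ← cancel_epi e.inv, comp_zero]
    exact hc))
  haveI : IsIso ((tensorRightF (O' n k (-a))).map φ) := by
    rw [show (tensorRightF (O' n k (-a))).map φ = e.hom ≫ c ≫ e.inv by simp [c]]
    infer_instance
  exact isIso_of_fully_faithful (tensorRightF (O' n k (-a))) φ

/-- A form of degree `d`, raised to degree `D`, unless it is zero. -/
theorem exists_form (hn : 1 ≤ n) {e m : ℤ} (φ : O' n k e ⟶ O' n k m) (hφ : ¬ IsIso φ) (D : ℤ)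
    (hD : e < m → (m - e) ∣ D ∧ 0 < D) :
    ∃ g : O' n k (-D) ⟶ Coh.structureModule (CohB1.ProjSpace n k),
      ∀ x, Function.Bijective (sm x φ) → Function.Bijective (sm x g) := by
  by_cases hlt : e < m
  · obtain ⟨⟨c, hc⟩, hD0⟩ := hD hlt
    obtain ⟨e0'⟩ := Groth.L22.Reg.nonempty_O_zero n k
    obtain ⟨φ', hφ'⟩ := exists_shift (-m) (show e + -m = -(m - e) by omega) (show m + -m = 0 by omega) φ
    have hc0 : 0 ≤ c := by
      by_contra hc0
      have : (m - e) * c < 0 := mul_neg_of_pos_of_neg (by omega) (by omega)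
      omega
    obtain ⟨g, hg⟩ := exists_pow (φ' ≫ e0'.hom) c.toNat D (by rw [Int.toNat_of_nonneg hc0, hc])
    exact ⟨g, fun x hx => hg x (bijective_sm_comp x _ _ (hφ' x hx) (bijective_sm_iso x e0'))⟩
  · refine ⟨0, fun x hx => ?_⟩
    exfalso
    have hne : φ ≠ 0 := fun h => by
      subst h
      obtain ⟨g⟩ := Groth.L03.Euler.exists_stalk_equiv (ProjTwist.isInvertible_twistProjSpace n k e) x
      have h1 : g 1 = g 0 := hx.1 (by rw [Groth.L22.Reg.sm_zero, Groth.L22.Reg.sm_zero])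
      exact one_ne_zero (g.injective h1)
    exact hφ (isIso_of_eq (le_antisymm (le_of_ne_zero hn hne) (not_lt.1 hlt)) hne)

/-- A locally free cokernel of `O(e) ⟶ O(m₀) ⊞ O(m₁) ⊞ O(m₂)` is a sum of two twists. -/
theorem split_of_three (hn : 3 ≤ n) {e m₀ m₁ m₂ : ℤ} {S : ShortComplex (CohB1.ProjSpace n k).Modules}
    (hS : S.ShortExact) {r : ℕ} (hE : FlatMod.IsFinLocFreeOfRank r S.X₃) (eK : S.X₁ ≅ O' n k e)
    (eM : S.X₂ ≅ O' n k m₀ ⊞ (O' n k m₁ ⊞ O' n k m₂)) :
    ∃ a b : ℤ, Nonempty (S.X₃ ≅ O' n k a ⊞ O' n k b) := by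
  let φ₀ := eK.inv ≫ S.f ≫ eM.hom ≫ biprod.fst
  let φ₁ := eK.inv ≫ S.f ≫ eM.hom ≫ biprod.snd ≫ biprod.fst
  let φ₂ := eK.inv ≫ S.f ≫ eM.hom ≫ biprod.snd ≫ biprod.snd
  by_cases h0 : IsIso φ₀
  · haveI := h0
    obtain ⟨i⟩ := nonempty_coker_iso hS eM (by
      rw [show S.f ≫ eM.hom ≫ biprod.fst = eK.hom ≫ φ₀ by simp [φ₀]]; infer_instance)
    exact ⟨m₁, m₂, ⟨i⟩⟩
  by_cases h1 : IsIso φ₁
  · haveI := h1
    let σ : O' n k m₀ ⊞ (O' n k m₁ ⊞ O' n k m₂) ≅ O' n k m₁ ⊞ (O' n k m₀ ⊞ O' n k m₂) :=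
      { hom := biprod.lift (biprod.snd ≫ biprod.fst) (biprod.lift biprod.fst (biprod.snd ≫ biprod.snd))
        inv := biprod.lift (biprod.snd ≫ biprod.fst) (biprod.lift biprod.fst (biprod.snd ≫ biprod.snd))
        hom_inv_id := by
          repeat' first | apply biprod.hom_ext | apply biprod.hom_ext'
          all_goals simp
        inv_hom_id := by
          repeat' first | apply biprod.hom_ext | apply biprod.hom_ext'
          all_goals simp }
    obtain ⟨i⟩ := nonempty_coker_iso hS (eM ≪≫ σ) (by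
      rw [show S.f ≫ (eM ≪≫ σ).hom ≫ biprod.fst = eK.hom ≫ φ₁ by simp [φ₁, σ]]; infer_instance)
    exact ⟨m₀, m₂, ⟨i⟩⟩
  by_cases h2 : IsIso φ₂
  · haveI := h2
    let σ : O' n k m₀ ⊞ (O' n k m₁ ⊞ O' n k m₂) ≅ O' n k m₂ ⊞ (O' n k m₀ ⊞ O' n k m₁) :=
      { hom := biprod.lift (biprod.snd ≫ biprod.snd) (biprod.lift biprod.fst (biprod.snd ≫ biprod.fst))
        inv := biprod.lift (biprod.snd ≫ biprod.fst) (biprod.lift (biprod.snd ≫ biprod.snd) biprod.fst)
        hom_inv_id := by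
          repeat' first | apply biprod.hom_ext | apply biprod.hom_ext'
          all_goals simp
        inv_hom_id := by
          repeat' first | apply biprod.hom_ext | apply biprod.hom_ext'
          all_goals simp }
    obtain ⟨i⟩ := nonempty_coker_iso hS (eM ≪≫ σ) (by
      rw [show S.f ≫ (eM ≪≫ σ).hom ≫ biprod.fst = eK.hom ≫ φ₂ by simp [φ₂, σ]]; infer_instance)
    exact ⟨m₀, m₁, ⟨i⟩⟩
  exfalso
  let D : ℤ := max (m₀ - e) 1 * max (m₁ - e) 1 * max (m₂ - e) 1
  have hDpos : 0 < D := by positivity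
  obtain ⟨g₀, hg₀⟩ := exists_form (by omega) φ₀ h0 D fun h =>
    ⟨⟨max (m₁ - e) 1 * max (m₂ - e) 1, by simp only [D, max_eq_left (show (1 : ℤ) ≤ m₀ - e by omega)]; ring⟩, hDpos⟩
  obtain ⟨g₁, hg₁⟩ := exists_form (by omega) φ₁ h1 D fun h =>
    ⟨⟨max (m₀ - e) 1 * max (m₂ - e) 1, by simp only [D, max_eq_left (show (1 : ℤ) ≤ m₁ - e by omega)]; ring⟩, hDpos⟩
  obtain ⟨g₂, hg₂⟩ := exists_form (by omega) φ₂ h2 D fun h =>
    ⟨⟨max (m₀ - e) 1 * max (m₁ - e) 1, by simp only [D, max_eq_left (show (1 : ℤ) ≤ m₂ - e by omega)]; ring⟩, hDpos⟩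
  refine not_generates hDpos [g₀, g₁, g₂] hn fun x => ?_
  let F := Groth.L00.Stk.F (CohB1.ProjSpace n k) x
  haveI : F.Additive := Functor.additive_of_preserves_binary_products F
  obtain ⟨q⟩ := Groth.L22.CurveDeg.nonempty_stalk_equiv hE x
  haveI hP : Module.Projective ((CohB1.ProjSpace n k).presheaf.stalk x) (S.map F).X₃ := Module.Projective.of_equiv' q
  have hS' : (S.map F).ShortExact := hS.map_of_exact F
  haveI : Projective (S.map F).X₃ := (IsProjective.iff_projective (S.map F).X₃).1 hP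
  let r : F.obj S.X₂ ⟶ F.obj S.X₁ := hS'.splittingOfProjective.r
  have hr : F.map S.f ≫ r = 𝟙 _ := hS'.splittingOfProjective.f_r
  let ι₀ : O' n k m₀ ⟶ S.X₂ := biprod.inl ≫ eM.inv
  let ι₁ : O' n k m₁ ⟶ S.X₂ := biprod.inl ≫ biprod.inr ≫ eM.inv
  let ι₂ : O' n k m₂ ⟶ S.X₂ := biprod.inr ≫ biprod.inr ≫ eM.inv
  have htot : φ₀ ≫ ι₀ + φ₁ ≫ ι₁ + φ₂ ≫ ι₂ = eK.inv ≫ S.f := by
    simp only [φ₀, φ₁, φ₂, ι₀, ι₁, ι₂, Category.assoc]
    rw [add_assoc, ← Preadditive.comp_add, ← Preadditive.comp_add, ← Preadditive.comp_add, ← Preadditive.comp_add,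
      ← Preadditive.comp_add, ← Preadditive.comp_add, ← Preadditive.comp_add]
    congr 2
    rw [← Category.assoc biprod.fst, ← Category.assoc biprod.fst, ← Category.assoc biprod.snd,
      ← Preadditive.add_comp, biprod.total, Category.id_comp,
      ← Category.assoc biprod.snd, ← Preadditive.add_comp, biprod.total, Category.id_comp, Iso.hom_inv_id,
      Category.comp_id]
  have hsum : F.map φ₀ ≫ (F.map ι₀ ≫ r ≫ F.map eK.hom) + F.map φ₁ ≫ (F.map ι₁ ≫ r ≫ F.map eK.hom) +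
      F.map φ₂ ≫ (F.map ι₂ ≫ r ≫ F.map eK.hom) = 𝟙 _ := by
    simp only [← Category.assoc, ← Preadditive.add_comp, ← Functor.map_comp, ← Functor.map_add]
    rw [htot, Functor.map_comp, Category.assoc _ (F.map S.f), hr, Category.comp_id, ← Functor.map_comp,
      Iso.inv_hom_id, CategoryTheory.Functor.map_id]
  obtain ⟨eK'⟩ := Groth.L03.Euler.exists_stalk_equiv (ProjTwist.isInvertible_twistProjSpace n k e) x
  obtain ⟨e₀⟩ := Groth.L03.Euler.exists_stalk_equiv (ProjTwist.isInvertible_twistProjSpace n k m₀) x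
  obtain ⟨e₁⟩ := Groth.L03.Euler.exists_stalk_equiv (ProjTwist.isInvertible_twistProjSpace n k m₁) x
  obtain ⟨e₂⟩ := Groth.L03.Euler.exists_stalk_equiv (ProjTwist.isInvertible_twistProjSpace n k m₂) x
  rcases bijective_of_sum eK' e₀ e₁ e₂ (F.map φ₀).hom (F.map φ₁).hom (F.map φ₂).hom
      (F.map ι₀ ≫ r ≫ F.map eK.hom).hom (F.map ι₁ ≫ r ≫ F.map eK.hom).hom (F.map ι₂ ≫ r ≫ F.map eK.hom).hom
      (fun v => congrArg (fun f : F.obj (O' n k e) ⟶ F.obj (O' n k e) => f v) hsum) with h | h | h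
  · exact ⟨g₀, by simp, hg₀ x h⟩
  · exact ⟨g₁, by simp, hg₁ x h⟩
  · exact ⟨g₂, by simp, hg₂ x h⟩

end Groth.L03.VBPn.Res
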